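import Mathlib.RingTheory.Length
import Mathlib.Algebra.Module.Torsion.Basic
import Mathlib.LinearAlgebra.FreeModule.Finite.Matrix
import Mathlib.LinearAlgebra.Dimension.FreeAndStrongRankCondition
import Mathlib.LinearAlgebra.Dimension.Finrank
import Mathlib.RingTheory.PrincipalIdealDomain
import Mathlib.Tactic

set_option autoImplicit false
universe u v w

namespace K885.HomQuot

section

variable {R : Type u} [CommRing R] (I : Ideal R) [hI : I.IsMaximal]

theorem length_hom_of_torsion {X : Type v} {Y : Type w} [AddCommGroup X] [AddCommGroup Y]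
    [Module R X] [Module R Y] [Module.Finite R X] [Module.Finite R Y]
    (hX : Module.IsTorsionBySet R X I) (hY : Module.IsTorsionBySet R Y I) :
    Module.length R (Y →ₗ[R] X) = Module.length R Y * Module.length R X := by
  let _ : Field (R ⧸ I) := Ideal.Quotient.field I
  let _ : Module (R ⧸ I) X := hX.module
  let _ : Module (R ⧸ I) Y := hY.module
  have : IsScalarTower R (R ⧸ I) X := hX.isScalarTower
  have : IsScalarTower R (R ⧸ I) Y := hY.isScalarTower
  have : Module.Finite (R ⧸ I) X := Module.Finite.of_restrictScalars_finite R _ _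
  have : Module.Finite (R ⧸ I) Y := Module.Finite.of_restrictScalars_finite R _ _
  have hs : Function.Surjective (algebraMap R (R ⧸ I)) := Ideal.Quotient.mk_surjective
  rw [Module.length_eq_of_surjective (M := X) hs, Module.length_eq_of_surjective (M := Y) hs]
  let e : (Y →ₗ[R] X) ≃ₗ[R] (Y →ₗ[R ⧸ I] X) :=
    { toFun := fun f => { toFun := f, map_add' := f.map_add, map_smul' := fun c x => by
                            obtain ⟨c, rfl⟩ := hs c
                            rw [algebraMap_smul, map_smul, RingHom.id_apply, algebraMap_smul] }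
      invFun := fun f => f.restrictScalars R
      map_add' := fun f g => rfl
      map_smul' := fun c f => rfl
      left_inv := fun f => rfl
      right_inv := fun f => rfl }
  rw [e.length_eq, Module.length_eq_of_surjective (M := (Y →ₗ[R ⧸ I] X)) hs,
    Module.length_eq_finrank, Module.length_eq_finrank, Module.length_eq_finrank,
    Module.finrank_linearMap]
  push_cast
  rfl

theorem exists_leftInverse {X : Type v} {Y : Type w} [AddCommGroup X] [AddCommGroup Y]
    [Module R X] [Module R Y]
    (hX : Module.IsTorsionBySet R X I) (hY : Module.IsTorsionBySet R Y I)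
    (f : X →ₗ[R] Y) (hf : Function.Injective f) : ∃ g : Y →ₗ[R] X, g ∘ₗ f = LinearMap.id := by
  let _ : Field (R ⧸ I) := Ideal.Quotient.field I
  let _ : Module (R ⧸ I) X := hX.module
  let _ : Module (R ⧸ I) Y := hY.module
  have : IsScalarTower R (R ⧸ I) X := hX.isScalarTower
  have : IsScalarTower R (R ⧸ I) Y := hY.isScalarTower
  have hs : Function.Surjective (algebraMap R (R ⧸ I)) := Ideal.Quotient.mk_surjective
  let f' : X →ₗ[R ⧸ I] Y :=
    { toFun := f
      map_add' := f.map_add
      map_smul' := fun c x => by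
        obtain ⟨c, rfl⟩ := hs c
        rw [algebraMap_smul, map_smul, RingHom.id_apply, algebraMap_smul] }
  obtain ⟨g, hg⟩ := f'.exists_leftInverse_of_injective (LinearMap.ker_eq_bot.2 hf)
  refine ⟨g.restrictScalars R, ?_⟩
  ext x
  exact LinearMap.congr_fun hg x

end

section

variable {R : Type u} [CommRing R] (p : R)

/-- The submodule `p M`. -/
def pM (M : Type v) [AddCommGroup M] [Module R M] : Submodule R M :=
  LinearMap.range (LinearMap.lsmul R M p)

theorem mem_pM {M : Type v} [AddCommGroup M] [Module R M] (x : M) : x ∈ pM p M ↔ ∃ y, p • y = x :=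
  Iff.rfl

theorem isTorsion_of_pM_le {M : Type v} [AddCommGroup M] [Module R M] (B : Submodule R M)
    (h : pM p M ≤ B) : Module.IsTorsionBySet R (M ⧸ B) (Ideal.span {p} : Ideal R) := by
  rw [Module.isTorsionBySet_span_singleton_iff]
  intro x
  obtain ⟨x, rfl⟩ := Submodule.mkQ_surjective _ x
  rw [← map_smul]
  exact (Submodule.Quotient.mk_eq_zero _).2 (h ⟨x, rfl⟩)

theorem length_quot_pM [Nontrivial R] [hI : (Ideal.span {p} : Ideal R).IsMaximal]
    (M : Type v) [AddCommGroup M] [Module R M] [Module.Free R M] [Module.Finite R M] :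
    Module.length R (M ⧸ pM p M) = Module.finrank R M := by
  let b := Module.finBasis R M
  let f : M →ₗ[R] (Fin (Module.finrank R M) → R ⧸ Ideal.span {p}) :=
    LinearMap.pi (fun i => (Submodule.mkQ (Ideal.span {p} : Ideal R)) ∘ₗ
      (LinearMap.proj (R := R) (φ := fun _ => R) i) ∘ₗ b.equivFun.toLinearMap)
  have hf : Function.Surjective f := by
    intro y
    choose z hz using fun i => Submodule.mkQ_surjective (Ideal.span {p} : Ideal R) (y i)
    refine ⟨b.equivFun.symm z, ?_⟩
    funext i
    simp only [f, LinearMap.pi_apply, LinearMap.comp_apply, LinearEquiv.coe_coe,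
      LinearEquiv.apply_symm_apply, LinearMap.proj_apply]
    exact hz i
  have hk : LinearMap.ker f = pM p M := by
    ext x
    rw [LinearMap.mem_ker, mem_pM]
    constructor
    · intro h
      have h1 : ∀ i, ∃ z, p * z = b.equivFun x i := by
        intro i
        have := congrFun h i
        simp only [f, LinearMap.pi_apply, LinearMap.comp_apply, LinearEquiv.coe_coe,
          LinearMap.proj_apply, Pi.zero_apply] at this
        have h2 : b.equivFun x i ∈ (Ideal.span {p} : Ideal R) :=
          (Submodule.Quotient.mk_eq_zero _).1 this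
        rw [Ideal.mem_span_singleton] at h2
        obtain ⟨z, hz⟩ := h2
        exact ⟨z, hz.symm⟩
      choose z hz using h1
      refine ⟨b.equivFun.symm z, ?_⟩
      apply b.equivFun.injective
      rw [map_smul, LinearEquiv.apply_symm_apply]
      funext i
      exact hz i
    · rintro ⟨y, rfl⟩
      funext i
      simp only [f, LinearMap.pi_apply, LinearMap.comp_apply, LinearEquiv.coe_coe,
        LinearMap.proj_apply, Pi.zero_apply]
      refine (Submodule.Quotient.mk_eq_zero _).2 ?_
      rw [map_smul]
      exact Ideal.mul_mem_right _ _ (Ideal.mem_span_singleton_self p)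
  rw [← (Submodule.quotEquivOfEq _ _ hk).length_eq,
    (f.quotKerEquivOfSurjective hf).length_eq, Module.length_pi_of_fintype]
  have h1 : IsSimpleModule R (R ⧸ (Ideal.span {p} : Ideal R)) :=
    isSimpleModule_iff_isCoatom.2 (Ideal.isMaximal_def.1 hI)
  simp

variable {M : Type v} [AddCommGroup M] [Module R M] {N : Type w} [AddCommGroup N] [Module R N]
  (A : Submodule R M) (B : Submodule R N) (hA : pM p M ≤ A) (hB : pM p N ≤ B)

/-- The inclusion `A/pM → M/pM`. -/
noncomputable def incl : (A ⧸ (pM p M).comap A.subtype) →ₗ[R] M ⧸ pM p M :=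
  Submodule.mapQ _ _ A.subtype le_rfl

theorem incl_injective : Function.Injective (incl p A) := by
  rw [← LinearMap.ker_eq_bot, incl, Submodule.ker_mapQ, Submodule.mkQ_map_self]

theorem exact_incl : Function.Exact (incl p A) (Submodule.factor hA) := by
  intro x
  obtain ⟨x, rfl⟩ := Submodule.mkQ_surjective _ x
  constructor
  · intro h
    have hx : x ∈ A := (Submodule.Quotient.mk_eq_zero _).1 h
    exact ⟨Submodule.mkQ _ ⟨x, hx⟩, rfl⟩
  · rintro ⟨y, hy⟩
    obtain ⟨y, rfl⟩ := Submodule.mkQ_surjective _ y
    have h1 : (pM p M).mkQ (y : M) = (pM p M).mkQ x := hy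
    rw [← h1]
    exact (Submodule.Quotient.mk_eq_zero _).2 y.2

theorem exists_extension [hI : (Ideal.span {p} : Ideal R).IsMaximal] [Module.Projective R M]
    (g : A →ₗ[R] N ⧸ B) (hg : ∀ x : A, (x : M) ∈ pM p M → g x = 0) :
    ∃ h : M →ₗ[R] N, B.mkQ ∘ₗ h ∘ₗ A.subtype = g := by
  have hT : Module.IsTorsionBySet R (A ⧸ (pM p M).comap A.subtype) (Ideal.span {p} : Ideal R) := by
    apply isTorsion_of_pM_le
    rintro _ ⟨y, rfl⟩
    exact ⟨(y : M), rfl⟩
  have hT' : Module.IsTorsionBySet R (M ⧸ pM p M) (Ideal.span {p} : Ideal R) :=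
    isTorsion_of_pM_le p _ le_rfl
  obtain ⟨r, hr⟩ := exists_leftInverse (Ideal.span {p}) hT hT' (incl p A) (incl_injective p A)
  let g' : (A ⧸ (pM p M).comap A.subtype) →ₗ[R] N ⧸ B := Submodule.liftQ _ g (by
    intro x hx
    exact hg x hx)
  obtain ⟨h, hh⟩ := Module.projective_lifting_property B.mkQ (g' ∘ₗ r ∘ₗ (pM p M).mkQ)
    (Submodule.mkQ_surjective _)
  refine ⟨h, ?_⟩
  rw [← LinearMap.comp_assoc, hh]
  ext x
  have h1 : (pM p M).mkQ (x : M) = incl p A (Submodule.mkQ _ x) := rfl
  simp only [LinearMap.comp_apply, Submodule.subtype_apply, h1]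
  have h2 := LinearMap.congr_fun hr (Submodule.mkQ _ x)
  simp only [LinearMap.comp_apply, LinearMap.id_apply] at h2
  rw [h2]
  rfl

/-- The restriction map. -/
noncomputable def Phi : (M →ₗ[R] N) →ₗ[R] (A →ₗ[R] N ⧸ B) where
  toFun h := B.mkQ ∘ₗ h ∘ₗ A.subtype
  map_add' h h' := by ext x; simp
  map_smul' c h := by ext x; simp

/-- The inflation map. -/
noncomputable def Psi : ((A ⧸ (pM p M).comap A.subtype) →ₗ[R] N ⧸ B) →ₗ[R] (A →ₗ[R] N ⧸ B) where
  toFun h := h ∘ₗ Submodule.mkQ _
  map_add' h h' := by ext x; simp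
  map_smul' c h := by ext x; simp

theorem Psi_injective : Function.Injective (Psi p A B) := by
  intro f g h
  ext x
  exact LinearMap.congr_fun h x

include hB in
theorem range_Phi_eq [hI : (Ideal.span {p} : Ideal R).IsMaximal] [Module.Projective R M] :
    LinearMap.range (Phi A B) = LinearMap.range (Psi p A B) := by
  apply le_antisymm
  · rintro _ ⟨h, rfl⟩
    refine ⟨Submodule.liftQ _ (Phi A B h) ?_, ?_⟩
    · rintro x ⟨y, hy⟩
      change B.mkQ (h x) = 0
      have : (x : M) = p • y := hy.symm
      rw [this, map_smul]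
      exact (Submodule.Quotient.mk_eq_zero _).2 (hB ⟨_, rfl⟩)
    · ext x
      rfl
  · rintro _ ⟨g, rfl⟩
    obtain ⟨h, hh⟩ := exists_extension p A B (Psi p A B g) (fun x hx => by
      change g (Submodule.mkQ _ x) = 0
      have : (Submodule.mkQ ((pM p M).comap A.subtype)) x = 0 :=
        (Submodule.Quotient.mk_eq_zero _).2 hx
      rw [this, map_zero])
    exact ⟨h, hh⟩

include hA hB in
theorem length_quot_hom [Nontrivial R] [hI : (Ideal.span {p} : Ideal R).IsMaximal]
    [IsNoetherianRing R] [Module.Free R M]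
    [Module.Finite R M] [Module.Finite R N] (s₁ : ℕ)
    (hs₁ : (Module.finrank R M : ℕ∞) = Module.length R (M ⧸ A) + s₁) :
    Module.length R ((M →ₗ[R] N) ⧸ LinearMap.ker (Phi A B)) = Module.length R (N ⧸ B) * s₁ := by
  have hT : Module.IsTorsionBySet R (A ⧸ (pM p M).comap A.subtype) (Ideal.span {p} : Ideal R) := by
    apply isTorsion_of_pM_le
    rintro _ ⟨y, rfl⟩
    exact ⟨(y : M), rfl⟩
  have hT' : Module.IsTorsionBySet R (N ⧸ B) (Ideal.span {p} : Ideal R) :=
    isTorsion_of_pM_le p _ hB
  rw [LinearEquiv.length_eq (N := LinearMap.range (Phi A B)) (Phi A B).quotKerEquivRange,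
    LinearEquiv.length_eq (N := LinearMap.range (Psi p A B))
      (LinearEquiv.ofEq _ _ (range_Phi_eq p A B hB)),
    ← LinearEquiv.length_eq (N := LinearMap.range (Psi p A B))
      (LinearEquiv.ofInjective (Psi p A B) (Psi_injective p A B)),
    length_hom_of_torsion (Ideal.span {p}) hT' hT, mul_comm]
  congr 1
  have h1 := Module.length_eq_add_of_exact (incl p A) (Submodule.factor hA) (incl_injective p A)
    (Submodule.factor_surjective hA) (exact_incl p A hA)
  rw [length_quot_pM, hs₁] at h1
  have h2 : Module.length R (M ⧸ A) ≠ ⊤ := by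
    intro h
    rw [h] at hs₁
    simp at hs₁
  rw [add_comm] at h1
  exact (ENat.add_left_injective_of_ne_top h2 h1).symm

end

end K885.HomQuot
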